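import Groth.Agent.Sga3B.PinCell
import Groth.Agent.Sga3B.PinComb829

/-!
# Torus points in the group generated by simple root elements

For `E : PinCell P b R A` and an `R`-algebra `B`: the elements `a^∨(v)` (`a` simple, `v` a unit) lie in the
group generated by `u_a(B)`, `u_{-a}(B)`, and when the coroots span the cocharacter lattice all torus points do.
-/

set_option autoImplicit false
universe u

namespace Groth.Agent.RedSub.H639.TorGen

open Groth.Agent.Sga3B Groth.Agent.Sga3B.Cell

variable {idx M : Type} [Fintype idx] [AddCommGroup M] [Module.Free ℤ M]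
    [Module.Finite ℤ M] {P : RootPairing idx ℤ M (Module.Dual ℤ M)} {b : P.Base}
    {R A : Type u} [CommRing R] [CommRing A] [Algebra R A] [PtGrp R A]
    (E : PinCell P b R A)

/-- the subgroup generated by the root elements of the simple roots and their negatives -/
def simpleGrp (B : Type u) [CommRing B] [Algebra R B] : Subgroup (Pt R A B) :=
  Subgroup.closure {g | ∃ a : idx, (a ∈ b.support ∨ P.reflectionPerm a a ∈ b.support) ∧
    ∃ x : B, g = E.uu a B x}

omit [Fintype idx] [Module.Free ℤ M] [Module.Finite ℤ M] in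
lemma neg_neg_idx (c : idx) :
    P.reflectionPerm (P.reflectionPerm c c) (P.reflectionPerm c c) = c := by
  apply P.root.injective
  rw [P.root_reflectionPerm, P.reflection_apply_self, P.root_reflectionPerm,
    P.reflection_apply_self, neg_neg]

section

variable {B : Type u} [CommRing B] [Algebra R B]

lemma uu_mem {a : idx} (ha : a ∈ b.support) (x : B) : E.uu a B x ∈ simpleGrp E B :=
  Subgroup.subset_closure ⟨a, Or.inl ha, x, rfl⟩

lemma uu_neg_mem {a : idx} (ha : a ∈ b.support) (x : B) :
    E.uu (P.reflectionPerm a a) B x ∈ simpleGrp E B :=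
  Subgroup.subset_closure ⟨P.reflectionPerm a a, Or.inr (by rw [neg_neg_idx]; exact ha), x, rfl⟩

lemma nn_mem {a : idx} (ha : a ∈ b.support) : E.nn a B ∈ simpleGrp E B :=
  mul_mem (mul_mem (uu_mem E ha _) (uu_neg_mem E ha _)) (uu_mem E ha _)

/-- `a^∨(v)` is a product of root elements for `±a` -/
lemma cow_mem {a : idx} (ha : a ∈ b.support) (v : Bˣ) :
    E.i B (TPt.cow (P.coroot a) v) ∈ simpleGrp E B := by
  have h1 := E.rank1 a ha (1 : B) ((v : B) - 1) v (by ring)
  have h2 : E.i B (TPt.cow (P.coroot a) v) =
      (E.uu (P.reflectionPerm a a) B ((v⁻¹ : Bˣ) * ((v : B) - 1)))⁻¹ *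
        (E.uu a B 1 * E.uu (P.reflectionPerm a a) B ((v : B) - 1)) *
        (E.uu a B ((v⁻¹ : Bˣ) * 1))⁻¹ := by
    rw [h1]; group
  rw [h2]
  exact mul_mem (mul_mem (inv_mem (uu_neg_mem E ha _)) (mul_mem (uu_mem E ha _) (uu_neg_mem E ha _)))
    (inv_mem (uu_mem E ha _))

/-- cocharacters with values in the group generated by simple root elements -/
lemma cow_mem_of_mem_span {f : Module.Dual ℤ M} (hf : f ∈ Submodule.span ℤ (Set.range P.coroot))
    (v : Bˣ) : E.i B (TPt.cow f v) ∈ simpleGrp E B := by
  rw [← b.span_int_coroot_support] at hf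
  induction hf using Submodule.span_induction with
  | mem x hx =>
    obtain ⟨a, ha, rfl⟩ := hx
    exact cow_mem E ha v
  | zero =>
    have : TPt.cow (0 : Module.Dual ℤ M) v = 1 := by
      apply TPt.ext_ch
      intro m
      rw [TPt.ch_cow]
      simp
    rw [this, map_one]
    exact one_mem _
  | add x y _ _ hx hy =>
    have : TPt.cow (x + y) v = TPt.cow x v * TPt.cow y v := by
      apply TPt.ext_ch
      intro m
      rw [TPt.ch_mul, TPt.ch_cow, TPt.ch_cow, TPt.ch_cow, ← Units.val_mul, ← zpow_add]
      rfl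
    rw [this, map_mul]
    exact mul_mem hx hy
  | smul n x _ hx =>
    have : TPt.cow (n • x) v = (TPt.cow x v) ^ n := by
      apply TPt.ext_ch
      intro m
      have h1 : TPt.ch m ((TPt.cow x v) ^ n) = (((TPt.cow x v) (Multiplicative.ofAdd m) ^ n : Bˣ) : B) := by
        rw [TPt.ch, MonoidHom.zpow_apply]
      rw [h1, TPt.ch_cow]
      change ((v ^ (n • x m) : Bˣ) : B) = (((v ^ (x m)) ^ n : Bˣ) : B)
      rw [← zpow_mul, smul_eq_mul, mul_comm]
    rw [this]
    exact zpow_mem (K := (simpleGrp E B).comap (E.i B)) hx n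

/-- **torus points**: if the coroots span the cocharacter lattice, all torus points lie in the group
generated by the simple root elements. -/
theorem i_mem (hsc : Submodule.span ℤ (Set.range P.coroot) = ⊤) (t : TPt M B) :
    E.i B t ∈ simpleGrp E B := by
  classical
  let bas := Module.Free.chooseBasis ℤ M
  have key : t = ∏ i, TPt.cow (bas.coord i) (t (Multiplicative.ofAdd (bas i))) := by
    refine MonoidHom.ext fun m => ?_
    rw [MonoidHom.finsetProd_apply]
    have h1 : m = ∏ i, (Multiplicative.ofAdd (bas i)) ^ (bas.repr m.toAdd i) := by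
      apply Multiplicative.toAdd.injective
      rw [toAdd_prod]
      simp only [toAdd_zpow, toAdd_ofAdd]
      exact (bas.sum_repr m.toAdd).symm
    conv_lhs => rw [h1]
    rw [map_prod]
    refine Finset.prod_congr rfl fun i _ => ?_
    rw [map_zpow]
    rfl
  rw [key]
  change _ ∈ (simpleGrp E B).comap (E.i B)
  exact Subgroup.prod_mem _ fun i _ => cow_mem_of_mem_span E (by rw [hsc]; trivial) _

end

end Groth.Agent.RedSub.H639.TorGen
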