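import Groth.Agent.RedSub.H639.PinBuildX
import Groth.Agent.RedSub.H639.TorGen

/-!
# From points of a pinned chart over `𝟙 (Spec A)` to sections
-/

set_option autoImplicit false
universe u v

open CategoryTheory MonoidalCategory CartesianMonoidalCategory MonObj GrpObj AlgebraicGeometry

namespace Groth.Agent.RedSub.H639.Glue

open Groth.Agent.Sga3B Groth.Agent.Sga3B.Cell Groth.Agent.Sga3B.PinMod
open Groth.Agent.RedSub.H639.PinBuildX Groth.Agent.RedSub.H639.TorGen

/-- precomposition with an isomorphism on points of a group object -/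
def precomp {C : Type u} [Category.{v} C] [CartesianMonoidalCategory C] {X Y : C} (e : X ≅ Y) (G : C)
    [GrpObj G] : (Y ⟶ G) ≃* (X ⟶ G) where
  toFun x := e.hom ≫ x
  invFun x := e.inv ≫ x
  left_inv x := by simp
  right_inv x := by simp
  map_mul' x y := MonObj.comp_mul _ _ _

@[simp] lemma precomp_apply {C : Type u} [Category.{v} C] [CartesianMonoidalCategory C] {X Y : C}
    (e : X ≅ Y) (G : C) [GrpObj G] (x : Y ⟶ G) : precomp e G x = e.hom ≫ x := rfl

lemma specMap_self (A : Type u) [CommRing A] :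
    Spec.map (CommRingCat.ofHom (algebraMap A A)) = 𝟙 (Spec (CommRingCat.of A)) := by
  rw [Algebra.algebraMap_self, CommRingCat.ofHom_id, Spec.map_id]

lemma mk_eq (A : Type u) [CommRing A] :
    Over.mk (𝟙 (Spec (CommRingCat.of A))) = tB (𝟙 (Spec (CommRingCat.of A))) A := by
  rw [tB, specMap_self, Category.id_comp]

/-- the terminal object of `Over (Spec A)` is `Spec A` viewed as an affine test object -/
noncomputable def unitIso (A : Type u) [CommRing A] :
    𝟙_ (Over (Spec (CommRingCat.of A))) ≅ tB (𝟙 (Spec (CommRingCat.of A))) A :=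
  (isTerminalTensorUnit.uniqueUpToIso Over.mkIdTerminal).trans (eqToIso (mk_eq A))

variable {A : Type u} [CommRing A] {G : Over (Spec (CommRingCat.of A))} [GrpObj G]
variable {D : Red.Pinning G}

/-- sections of `G` as points of the chart -/
noncomputable def secEquiv (m : PinChart D (𝟙 (Spec (CommRingCat.of A)))) :
    Pt A m.A A ≃* (𝟙_ (Over (Spec (CommRingCat.of A))) ⟶ G) :=
  (m.pts A).trans (precomp (unitIso A) G)

lemma secEquiv_apply (m : PinChart D (𝟙 (Spec (CommRingCat.of A)))) (g : Pt A m.A A) :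
    secEquiv m g = (unitIso A).hom ≫ m.pts A g := rfl

/-- root elements as sections -/
lemma secEquiv_uu (m : PinChart D (𝟙 (Spec (CommRingCat.of A)))) (a : D.idx) (x : A) :
    ∃ y : 𝟙_ (Over (Spec (CommRingCat.of A))) ⟶ Red.Ga (Spec (CommRingCat.of A)),
      secEquiv m (m.E.uu a A x) = y ≫ D.u a := by
  rw [secEquiv_apply, m.pts_uu, ← Category.assoc]
  exact ⟨_, rfl⟩

/-- generation of the group of sections from generation of the points of the chart -/
theorem closure_eq_top (m : PinChart D (𝟙 (Spec (CommRingCat.of A))))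
    (h : simpleGrp m.E A = ⊤) :
    Subgroup.closure
        {g : 𝟙_ (Over (Spec (CommRingCat.of A))) ⟶ G | ∃ a : D.idx,
          (a ∈ D.base.support ∨ D.P.reflectionPerm a a ∈ D.base.support) ∧
            ∃ x : 𝟙_ _ ⟶ Red.Ga (Spec (CommRingCat.of A)), g = x ≫ D.u a} = ⊤ := by
  rw [eq_top_iff]
  intro g _
  obtain ⟨p, rfl⟩ := (secEquiv m).surjective g
  have hp : p ∈ simpleGrp m.E A := by rw [h]; trivial
  change p ∈ (Subgroup.closure _).comap (secEquiv m).toMonoidHom
  refine (Subgroup.closure_le _).mpr ?_ hp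
  rintro _ ⟨a, ha, x, rfl⟩
  rw [SetLike.mem_coe, Subgroup.mem_comap]
  obtain ⟨y, hy⟩ := secEquiv_uu m a x
  exact Subgroup.subset_closure ⟨a, ha, y, hy⟩

end Groth.Agent.RedSub.H639.Glue
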