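import Groth.Agent.Sga3B.PinBuild
import Groth.Agent.Sga3B.PinModelOf

/-!
# Pinned cell data of a splitting with explicit rescaling units

Variant of `Sga3B.PinBuild.exists_pinCell` which also records that *all* root homomorphisms of the
cell are the given ones up to units, and the resulting chart of a pinned group.
-/

set_option autoImplicit false
universe u

open TensorProduct

namespace Groth.Agent.RedSub.H639.PinBuildX

open Groth.Agent.Sga3B Groth.Agent.Sga3B.Cell Groth.Agent.Sga3B.Cell.Datum
open Groth.Agent.Sga3B.PinBuild

variable {R A : Type u} [CommRing R] [CommRing A] [Algebra R A] [PtGrp R A] {D : Datum R A}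

/-- **Pinned cell data** from a good datum with reflection points. -/
theorem exists_pinCell_scaled [Algebra.Smooth R A] (hdom : ∀ (K : Type u) [Field K] [Algebra R K],
      IsDomain (K ⊗[R] A)) (hG : D.Good)
    (P : RootPairing D.idx ℤ D.M (Module.Dual ℤ D.M)) (hP : ∀ a, P.root a = D.root a)
    (hpe : P.toLinearMap = Module.Dual.eval ℤ D.M) (b : P.Base)
    (hn : ∀ a ∈ b.support, ∃ n : Pt R A R, ∀ {B : Type u} [CommRing B] [Algebra R B]
      (t : TPt D.M B), bp B n * D.i B t * (bp B n)⁻¹ =
        D.i B (t * (TPt.cow (P.coroot a) (t (Multiplicative.ofAdd (D.root a))))⁻¹)) :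
    ∃ (E : PinCell P b R A) (ε : D.idx → Rˣ),
      (∀ (B : Type u) [CommRing B] [Algebra R B] (t : TPt D.M B), E.i B t = D.i B t) ∧
      (∀ a ∈ b.support, ε a = 1) ∧
      ∀ (a : D.idx) (B : Type u) [CommRing B] [Algebra R B] (x : B),
        E.uu a B x = D.uu a B (algebraMap R B (ε a) * x) := by
  classical
  have hred : P.IsReduced := PinComb.isReduced b
  have hfp : Algebra.FinitePresentation R A := inferInstance
  have hft : Algebra.FiniteType R A := inferInstance
  obtain ⟨hinj, I, hI, hmem⟩ := cell_props hG P hP b
  have hneg : ∀ a, D.root (P.reflectionPerm a a) = - D.root a := fun a => by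
    rw [← hP, ← hP]; simp
  have hpos : ∀ a ∈ b.support, b.IsPos a := fun a ha => RootPairing.Base.isPos_of_mem_support ha
  have hnpos : ∀ a ∈ b.support, ¬ b.IsPos (P.reflectionPerm a a) := fun a ha =>
    (RootPairing.Base.IsPos.neg_iff_not b a).not.mpr (not_not.mpr (hpos a ha))
  -- rank one relations
  have h1 : ∀ a ∈ b.support, ∃ c : Rˣ, ∀ {B : Type u} [CommRing B] [Algebra R B] (x y : B)
      (v : Bˣ), (v : B) = 1 + x * y →
      D.uu a B x * D.uu (P.reflectionPerm a a) B (algebraMap R B c * y) =
      D.uu (P.reflectionPerm a a) B (algebraMap R B c * ((v⁻¹ : Bˣ) * y)) *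
        D.i B (TPt.cow (P.coroot a) v) * D.uu a B ((v⁻¹ : Bˣ) * x) := by
    intro a ha
    obtain ⟨n, hn⟩ := hn a ha
    have H : RankOneHyp D a (P.reflectionPerm a a) (P.coroot a) (negList b) (posList b) I n :=
      { good := hG
        ft := hft
        dom := hdom
        neg := hneg a
        two := by
          have := P.root_coroot_two a
          rw [hpe] at this
          rw [← hP]
          exact this
        red := by
          intro c hc
          by_cases hac : a = c
          · exact Or.inl hac.symm
          · right
            rw [← hP, ← hP] at hc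
            have hli : ¬ LinearIndependent ℤ ![P.root a, P.root c] := by
              intro hli
              rw [LinearIndependent.pair_iff] at hli
              have := (hli (P.coroot a (P.root c)) (-2) (by rw [← hc]; module)).2
              omega
            have h2 := RootPairing.IsReduced.eq_or_eq_neg (P := P) a c hli
            rcases h2 with h2 | h2
            · exact absurd (P.root.injective h2) hac
            · apply P.root.injective
              rw [P.root_reflectionPerm, P.reflection_apply_self, h2, neg_neg]
        nodup := allList_nodup b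
        compl := mem_allList b
        mem_neg := (mem_negList b).mpr (hnpos a ha)
        mem_pos := (mem_posList b).mpr (hpos a ha)
        inj := hinj
        mem_iff := hmem
        acts := acts_rf hn }
    exact H.rank_one_norm
  choose! c hc using h1
  -- rescaling
  let ε : D.idx → Rˣ := fun a =>
    if P.reflectionPerm a a ∈ b.support then c (P.reflectionPerm a a) else 1
  have hinvol : ∀ a, P.reflectionPerm (P.reflectionPerm a a) (P.reflectionPerm a a) = a := by
    intro a
    apply P.root.injective
    rw [hP, hneg, hneg, neg_neg, hP]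
  have hε1 : ∀ a ∈ b.support, ε a = 1 := by
    intro a ha
    have : P.reflectionPerm a a ∉ b.support := fun h => hnpos a ha (hpos _ h)
    simp [ε, this]
  have hε2 : ∀ a ∈ b.support, ε (P.reflectionPerm a a) = c a := by
    intro a ha
    simp only [ε]
    rw [hinvol, if_pos ha]
  let D₁ := D.rescale ε
  have hG₁ : D₁.Good := Good.rescale D ε hG
  have hP₁ : ∀ a, P.root a = D₁.root a := hP
  obtain ⟨hinj₁, I₁, hI₁, hmem₁⟩ := cell_props (D := D₁) hG₁ P hP₁ b
  have hrank : ∀ a ∈ b.support, ∀ {B : Type u} [CommRing B] [Algebra R B] (x y : B) (v : Bˣ),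
    (v : B) = 1 + x * y → D₁.uu a B x * D₁.uu (P.reflectionPerm a a) B y =
      D₁.uu (P.reflectionPerm a a) B ((v⁻¹ : Bˣ) * y) * D₁.i B (TPt.cow (P.coroot a) v) *
        D₁.uu a B ((v⁻¹ : Bˣ) * x) := by
    intro a ha B _ _ x y v hv
    have h2 := hc a ha x y v hv
    change D.uu a B (algebraMap R B (ε a) * x) *
      D.uu (P.reflectionPerm a a) B (algebraMap R B (ε (P.reflectionPerm a a)) * y) =
      D.uu (P.reflectionPerm a a) B (algebraMap R B (ε (P.reflectionPerm a a)) *
        ((v⁻¹ : Bˣ) * y)) * D.i B (TPt.cow (P.coroot a) v) *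
        D.uu a B (algebraMap R B (ε a) * ((v⁻¹ : Bˣ) * x))
    rw [hε1 a ha, hε2 a ha, Units.val_one, map_one, one_mul, one_mul]
    exact h2
  refine ⟨{ pairing_eq := hpe
            i := D.i
            i_nat := D.i_nat
            i_inj := D.i_inj
            uu := D₁.uu
            uu_add := D₁.uu_add
            uu_nat := D₁.uu_nat
            uu_surj := D₁.uu_surj
            rel := fun a B _ _ t x => by
              rw [hP]
              exact D₁.rel a t x
            rank1 := hrank
            comm := fun a ha c hc hac B _ _ x y => pin_comm (D := D₁) P hP₁ b hG₁ ha hc hac x y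
            conj := fun a ha c => pin_conj (D := D₁) P hP₁ b hG₁ hpe (hrank a ha) c
            cell_inj := fun x x' t t' h => hinj₁ h
            cellIdeal := I₁
            cellIdeal_fg := hI₁
            mem_cell_iff := fun g => hmem₁ g
            pos_mul := fun x y => pin_pos_mul (D := D₁) P hP₁ b hG₁ x y
            neg_mul := fun x y => pin_neg_mul (D := D₁) P hP₁ b hG₁ x y
            fp := hfp
            smooth := inferInstance
            domain := hdom }, ε, fun B _ _ t => rfl, hε1, fun a B _ _ x => rfl⟩

end Groth.Agent.RedSub.H639.PinBuildX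

namespace Groth.Agent.RedSub.H639.PinBuildX

open CategoryTheory MonoidalCategory CartesianMonoidalCategory MonObj GrpObj AlgebraicGeometry
open Groth.Agent.Sga3B Groth.Agent.Sga3B.Cell Groth.Agent.Sga3B.Cell.Datum
open Groth.Agent.Sga3B.PinMod Groth.Agent.Sga3B.DSPts Groth.Agent.Sga3B.GaPts
open Groth.Agent.Sga3B.PinFinal Groth.Agent.Sga3B.PinModelOf

/-- A chart of the pinned group `G` over `s : Spec R ⟶ S` together with pinned cell data on its points,
with explicit comparison of the torus and of all root homomorphisms. -/
structure PinChart {S : Scheme.{u}} {G : Over S} [GrpObj G] (D : Red.Pinning G)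
    {R : Type u} [CommRing R] (s : Spec (CommRingCat.of R) ⟶ S) extends Chart G s where
  /-- the pinned cell -/
  E : PinCell D.P D.base R A
  /-- the rescaling units -/
  ε : D.idx → Rˣ
  ε_simple : ∀ a ∈ D.base.support, ε a = 1
  pts_i : ∀ (B : Type u) [CommRing B] [Algebra R B] (t : TPt D.M B),
    pts B (E.i B t) = dsEquiv (tB s B) D.M (chΓ s t) ≫ jOf D.toSplitRed
  pts_uu : ∀ (a : D.idx) (B : Type u) [CommRing B] [Algebra R B] (x : B),
    pts B (E.uu a B x) = gaPt (tB s B) (fnOf s (algebraMap R B (ε a) * x)) ≫ D.u a

/-- **Pinned charts exist** over every `s : Spec R ⟶ S`. -/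
theorem nonempty_pinChart {S : Scheme.{u}} {G : Over S} [GrpObj G] (D : Red.Pinning G)
    {R : Type u} [CommRing R] (s : Spec (CommRingCat.of R) ⟶ S) : Nonempty (PinChart D s) := by
  have : IsAffineHom G.hom := D.reductive.1
  obtain ⟨c⟩ := exists_chart G s
  have : Smooth G.hom := D.reductive.2.1
  have : Algebra.Smooth R c.A := ChartFib.smooth_of_isPullback c.isPullback
  obtain ⟨E, ε, hi, hε, hu⟩ := exists_pinCell_scaled (D := c.datum D.toSplitRed)
    (fun K _ _ => ChartFib.isDomain D.reductive c.isPullback K) (good D.toSplitRed c) D.P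
    (fun a => rfl) D.pairing_eq D.base (fun a _ => by
      obtain ⟨n, hn⟩ := exists_acts D.toSplitRed c a
      exact ⟨n, fun t => conj_of_acts (D := c.datum D.toSplitRed) D.P (fun a => rfl)
        D.pairing_eq hn t⟩)
  exact ⟨{ toChart := c
           E := E
           ε := ε
           ε_simple := hε
           pts_i := fun B _ _ t =>
             (congrArg (c.pts B) (hi B t)).trans (c.pts_i D.toSplitRed t)
           pts_uu := fun a B _ _ x =>
             (congrArg (c.pts B) (hu a B x)).trans (c.pts_uu D.toSplitRed a _) }⟩

end Groth.Agent.RedSub.H639.PinBuildX
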